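import Cfsg.Agent.MK.Sp2.Dual
import Cfsg.Agent.H631.Kaw.Coef
import Cfsg.Agent.H769.Kaw.Step
import Cfsg.Agent.KFacts.RgdCharP
import Cfsg.Agent.H597.Base
import Cfsg.Agent.Nodes.ChartLift
import Cfsg.Agent.Nodes.HasRGD

/-!
# BZ, defining characteristic: characters of defect zero are trivial on the centre (helper35)

* `DD_pel` : the dual of a function which vanishes at the `p`-singular elements is constant on the `p`-elements;
* `dz_central` : the value at a central element of the torus;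
* `dz_ker` : central extensions by `p'`-groups.
-/

set_option autoImplicit false
set_option linter.unusedSectionVars false
set_option linter.style.haveILetI false

namespace Cfsg.Agent.BZ.D1

open Cfsg Cfsg.Agent.Characters Cfsg.Agent.Characters.Core Cfsg.Agent.MK.Sp2 Cfsg.Agent.H631.Kaw
open Cfsg.Agent.OddOrderCharacters.Clifford (ext_apply_mem ext_apply_not_mem)
open CoxeterSystem Cfsg.Agent.ChevalleyStructure.CoxeterGeom Cfsg.Agent.Tits.Roots Cfsg.Agent.Tits.Core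
  Cfsg.Agent.Nodes.BNOf Cfsg.Agent.Nodes.Bruhat Cfsg.Agent.Nodes.LeviDec Cfsg.Agent.Nodes.RGDLib

variable {p : ℕ} [hp : Fact p.Prime]

/-- the mean over a coset of a `p`-group normalised by a `p`-element -/
theorem av_pel {Y : Type} [Group Y] [Finite Y] {V : Subgroup Y} (hV : IsPGroup p V) {χ : Y → ℂ}
    (hv : ∀ x, p ∣ orderOf x → χ x = 0) {y : Y} (hy : ∃ k, orderOf y = p ^ k)
    (hn : y ∈ Subgroup.normalizer (V : Set Y)) [Decidable (y ∈ V)] :
    av V χ y = if y ∈ V then χ 1 / Nat.card V else 0 := by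
  letI := Fintype.ofFinite V
  obtain ⟨k, hk⟩ := hy
  have h1 : IsPGroup p (Subgroup.zpowers y ⊔ V : Subgroup Y) :=
    IsPGroup.to_sup_of_normal_right' (IsPGroup.of_card (by rw [Nat.card_zpowers, hk])) hV
      ((Subgroup.zpowers_le).2 hn)
  have h2 : ∀ v ∈ V, y * v ≠ 1 → χ (y * v) = 0 := fun v hv' h3 => hv _ (by
    obtain ⟨j, hj⟩ := IsPGroup.iff_orderOf.1 h1 ⟨y * v, Subgroup.mul_mem_sup (Subgroup.mem_zpowers y) hv'⟩
    rw [Subgroup.orderOf_mk] at hj
    rw [hj]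
    refine dvd_pow_self p ?_
    rintro rfl
    exact h3 (orderOf_eq_one_iff.1 hj))
  rw [av, mn_eq]
  split_ifs with h3
  · rw [Finset.sum_eq_single (⟨y⁻¹, inv_mem h3⟩ : V) (fun v _ h4 => h2 v v.2 fun h5 =>
      h4 (Subtype.ext (eq_inv_of_mul_eq_one_right h5))) (fun h4 => absurd (Finset.mem_univ _) h4), mul_inv_cancel,
      div_eq_inv_mul]
  · rw [Finset.sum_eq_zero fun (v : V) _ => h2 v v.2 fun h5 => h3 (by
      rw [eq_inv_of_mul_eq_one_left h5]
      exact inv_mem v.2), mul_zero]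

variable {I W Y : Type} [Fintype I] [DecidableEq I] [Group W] [Group Y] {M : CoxeterMatrix I} [Fintype W] [Fintype Y]
  {cs : CoxeterSystem M W} {A : I → I → ℤ} {h : IsCartan M A} {T : Subgroup Y} {n : I → Y}
  {X : (I → ℤ) → Subgroup Y} (R : RGD cs h p T n X)

include R

theorem EJ_pel {χ : Y → ℂ} (hv : ∀ x, p ∣ orderOf x → χ x = 0) {u : Y} (hu : ∃ k, orderOf u = p ^ k) (J : Finset I) :
    EJ cs h T X J χ u = χ 1 / Nat.card (RGD.Sup X (RGD.Pos cs h)) *
      (Nat.card (UJ cs h X (J : Set I)) * fixV cs h T X J u) := by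
  classical
  have h1 : ∀ x : Y, extendByZero (PJ cs h T X J) (fun y : PJ cs h T X J => av (VJ cs h X J) χ y) (x⁻¹ * u * x) =
      (if x⁻¹ * u * x ∈ VJ cs h X J then 1 else 0) * (χ 1 / Nat.card (VJ cs h X J)) := fun x => by
    by_cases h2 : x⁻¹ * u * x ∈ PJ cs h T X J
    · rw [ext_apply_mem _ _ _ h2]
      change av _ _ (x⁻¹ * u * x) = _
      rw [av_pel (KFacts.RgdCharP.isPGroup_VJ R _) hv (hu.imp fun k hk => by
        rw [← hk, ← (MulAut.conj x⁻¹).orderOf_eq u, MulAut.conj_apply, inv_inv]) (PJ_le_normalizer_VJ R _ h2)]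
      split_ifs
      · rw [one_mul]
      · rw [zero_mul]
    · rw [ext_apply_not_mem _ _ _ h2, if_neg fun h3 => h2 (VJ_le_PJ h3), zero_mul]
  have h2 : (Nat.card (PJ cs h T X J) : ℂ) ≠ 0 := by exact_mod_cast (Nat.card_pos (α := PJ cs h T X J)).ne'
  have h3 : (Nat.card (UJ cs h X J) : ℂ) ≠ 0 := by exact_mod_cast (Nat.card_pos (α := UJ cs h X J)).ne'
  have h4 : (Nat.card (VJ cs h X J) : ℂ) ≠ 0 := by exact_mod_cast (Nat.card_pos (α := VJ cs h X J)).ne'
  rw [EJ, ii, indFun]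
  simp only [h1]
  rw [← Finset.sum_mul, ← card_eq_sum, card_eq_fixV R, H769.Kaw.card_U R (J : Set I)]
  push_cast
  field_simp

variable (hG : GG cs h T X = ⊤)

include hG

theorem DD_pel {χ : Y → ℂ} (hv : ∀ x, p ∣ orderOf x → χ x = 0) {u : Y} (hu : ∃ k, orderOf u = p ^ k) :
    DD cs h T X χ u = χ 1 / Nat.card (RGD.Sup X (RGD.Pos cs h)) := by
  have h1 := congrArg (Int.cast : ℤ → ℂ) (coef_eq_one R hG (mem_pel.2 hu))
  rw [coef] at h1
  push_cast at h1
  refine Eq.trans ?_ ((congrArg (_ * ·) h1).trans (mul_one _))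
  rw [DD, Finset.sum_apply, Finset.mul_sum]
  refine Finset.sum_congr rfl fun J _ => ?_
  rw [Pi.smul_apply, EJ_pel R hv hu, smul_eq_mul]
  ring

theorem dz_central (hgen : Subgroup.closure {y : Y | ∃ k : ℕ, y ^ p ^ k = 1} = ⊤) {χ : Y → ℂ}
    (hχ : IsIrrCharacter Y χ) (hv : ∀ x, p ∣ orderOf x → χ x = 0) {z : Y} (hz : z ∈ T)
    (hc : z ∈ Subgroup.center Y) : χ z = χ 1 := by
  have h1 : ∀ u : Y, (∃ k : ℕ, u ^ p ^ k = 1) → DD cs h T X χ u = DD cs h T X χ 1 := by
    rintro u ⟨k, hk⟩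
    rw [DD_pel R hG hv ((Nat.dvd_prime_pow hp.out).1 (orderOf_dvd_of_pow_eq_one hk) |>.imp fun _ e => e.2),
      DD_pel R hG hv ⟨0, by rw [orderOf_one, pow_zero]⟩]
  have h2 : ∀ ψ : Y → ℂ, IsIrrCharacter Y ψ → (∀ u : Y, (∃ k : ℕ, u ^ p ^ k = 1) → ψ u = ψ 1) → ∀ y, ψ y = ψ 1 :=
    fun ψ hψ e y => ((Subgroup.closure_le (H597.Base.ker (isIrr_isCharacter hψ))).2 e) (hgen.ge (Subgroup.mem_top y))
  have h3 : DD cs h T X χ = fun _ => DD cs h T X χ 1 := funext fun y => by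
    rcases DD_irr R hG hχ with h3 | h3
    · exact h2 _ h3 h1 y
    · exact neg_injective (h2 _ h3 (fun u hu => congrArg Neg.neg (h1 u hu)) y)
  rw [← DD_DD R hG (isIrr_isClassFunction hχ), h3]
  generalize DD cs h T X χ 1 = c
  rw [DD, Finset.sum_apply, Finset.sum_apply]
  refine Finset.sum_congr rfl fun J _ => ?_
  rw [Pi.smul_apply, Pi.smul_apply, EJ, ii, indFun, indFun]
  congr 2
  refine Finset.sum_congr rfl fun x _ => ?_
  rw [mul_assoc, ← Subgroup.mem_center_iff.1 hc x, inv_mul_cancel_left, mul_one, inv_mul_cancel,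
    ext_apply_mem _ _ _ (LJ_le_PJ (T_le_LJ hz)), ext_apply_mem _ _ _ (one_mem _)]
  rfl

omit R hG

/-- **Characters of defect zero are trivial on the kernel.** -/
theorem dz_ker {K S : Type} [Group K] [Finite K] [Group S] {σ : K →* S} (hs : Function.Surjective σ)
    (hc : σ.ker ≤ Subgroup.center K) (hk : ¬ p ∣ Nat.card σ.ker) (hK : commutator K = ⊤)
    (hS : Nodes.RGDChev.HasRGD p S) {χ : K → ℂ} (hχ : IsIrrCharacter K χ) (hv : ∀ x, p ∣ orderOf x → χ x = 0)
    {z : K} (hz : z ∈ σ.ker) : χ z = χ 1 := by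
  obtain ⟨l, M, A, h, T, n, X, hW, R, hX⟩ := hS
  letI := Fintype.ofFinite K
  letI := Fintype.ofFinite M.Group
  haveI : Finite S := Finite.of_surjective σ hs
  have hk' : (Nat.card σ.ker).Coprime p := ((Nat.Prime.coprime_iff_not_dvd hp.out).2 hk).symm
  choose n' hn' using fun i => hs (n i)
  have h1 := Nodes.ChartLift.G1_lft hc hk' hs R
  have h2 := Nodes.ChartLift.map_G1_lft hc hk' hs R
  rw [h1, hX] at h2
  have h3 := Nodes.ChartLift.eq_lft_of_perfect hc hk' (D := ⊤) hK (Subgroup.map_top_of_surjective σ hs) h2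
  rw [hX, ← h3] at h1
  refine dz_central (Nodes.RGDLift.rgd_lift hc hk' hs R hn') (eq_top_iff.2 (h1.ge.trans le_sup_right))
    (eq_top_iff.2 (h3.le.trans (Subgroup.closure_mono fun y hy => hy.2))) hχ hv ?_ (hc hz)
  rw [Subgroup.mem_comap, MonoidHom.mem_ker.1 hz]
  exact one_mem _

end Cfsg.Agent.BZ.D1
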